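import Groth.Agent.CechFiltLib.Main
import Groth.Agent.TotBoundLib.Main
import Groth.Agent.SpSeqLib.AcyclicComplex
import Groth.Agent.SpSeqLib.MapExt
import Groth.Agent.CxOXLib.Sections
import Groth.Prelude.Def_CechTot
import Mathlib.Algebra.Homology.TotalComplexSymmetry

/-!
# Čech hypercohomology of acyclic covers
-/

set_option autoImplicit false
set_option linter.style.haveILetI false
set_option linter.unusedSectionVars false
set_option backward.isDefEq.respectTransparency false
set_option backward.isDefEq.respectTransparency.types false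
set_option maxHeartbeats 1000000

universe u

open CategoryTheory CategoryTheory.Limits TopologicalSpace Opposite HomologicalComplex CechLib CechFiltLib
open Groth.Agent

noncomputable section

namespace CechAcycLib

variable {X : TopCat.{u}}

/-- Sections over an open. -/
abbrev secV (V : Opens X) : CohTop.Ab X ⥤ AddCommGrpCat.{u} :=
  sheafToPresheaf (Opens.grothendieckTopology X) AddCommGrpCat.{u} ⋙ (evaluation _ AddCommGrpCat.{u}).obj (op V)

/-- Maps out of the free sheaf. -/
abbrev freeHomV (V : Opens X) : CohTop.Ab X ⥤ AddCommGrpCat.{u} :=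
  preadditiveCoyoneda.obj (op (CohCx.freeSheaf (Opens.grothendieckTopology X) V))

/-- Sections are maps out of the free sheaf. -/
def freeHomVIso (V : Opens X) : freeHomV V ≅ secV V :=
  NatIso.ofComponents (fun F => (AddEquiv.ofBijective (CohFree.evalGen (Opens.grothendieckTopology X) V F)
    ⟨Function.LeftInverse.injective (CohFree.ofSect_evalGen (Opens.grothendieckTopology X) V F),
      Function.RightInverse.surjective (CohFree.evalGen_ofSect (Opens.grothendieckTopology X) V F)⟩).toAddCommGrpIso)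
    fun {F G} φ => by
      ext s
      rfl

attribute [local instance] HasDerivedCategory.standard in
/-- Sections preserve quasi-isomorphisms between bounded below complexes of acyclic sheaves. -/
theorem quasiIso_secV (V : Opens X) {K L : CochainComplex (CohTop.Ab X) ℤ} (α : K ⟶ L) [QuasiIso α] (a : ℤ)
    [K.IsStrictlyGE a] [L.IsStrictlyGE a] (hK : ∀ i q, Subsingleton (CohTop.HU (K.X i) (q + 1) V))
    (hL : ∀ i, Injective (L.X i)) : QuasiIso (((secV V).mapHomologicalComplex _).map α) := by
  have hS : ∀ i, SpSeqLib.IsSAcyclic (freeHomV V) (K.X i) := fun i => by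
    rw [SpSeqLib.isSAcyclic_iff]
    intro q hq
    obtain ⟨p, rfl⟩ := Nat.exists_eq_succ_of_ne_zero hq.ne'
    obtain ⟨e⟩ := CohLib.nonempty_rightDerived_coyoneda_iso_ext
      (CohCx.freeSheaf (Opens.grothendieckTopology X) V) (K.X i) (p + 1)
    haveI : Subsingleton (Abelian.Ext.{u}
        (CohCx.freeSheaf (Opens.grothendieckTopology X) V) (K.X i) (p + 1)) := hK i p
    exact (AddCommGrpCat.isZero_of_subsingleton _).of_iso e
  have h := SpSeqLib.quasiIso_map_of_isSAcyclic (freeHomV V) α a hS
    (fun i => haveI := hL i; SpSeqLib.isSAcyclic_of_injective _ (L.X i))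
  exact (quasiIso_iff_of_arrow_mk_iso _ _ (Arrow.isoMk
    ((NatIso.mapHomologicalComplex (freeHomVIso V) (ComplexShape.up ℤ)).app K)
    ((NatIso.mapHomologicalComplex (freeHomVIso V) (ComplexShape.up ℤ)).app L)
    (((NatIso.mapHomologicalComplex (freeHomVIso V) (ComplexShape.up ℤ)).hom.naturality α).symm))).1 h

variable {ι : Type u} (U : ι → Opens X)

theorem isIso_Ef_map {P Q : PSh X} (h : P ⟶ Q) (n : ℕ)
    (hh : ∀ J : Fin (n + 1) → ι, IsIso (h.app (op (cap U J)))) : IsIso ((Ef U n).map h) := by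
  have hb : ∀ J, Function.Bijective (h.app (op (cap U J))) := fun J =>
    haveI := hh J
    (ConcreteCategory.isIso_iff_bijective _).1 inferInstance
  rw [ConcreteCategory.isIso_iff_bijective]
  refine ⟨fun c c' e => (cochainEquiv U P n).injective (funext fun J => (hb J).1 ?_), fun d => ?_⟩
  · exact ((cochainEquiv_map U h n c J).symm.trans (congrArg (fun z => cochainEquiv U Q n z J) e)).trans
      (cochainEquiv_map U h n c' J)
  · choose b hb' using fun J => (hb J).2 (cochainEquiv U Q n d J)
    refine ⟨(cochainEquiv U P n).symm b, (cochainEquiv U Q n).injective (funext fun J => ?_)⟩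
    refine (cochainEquiv_map U h n _ J).trans ?_
    rw [AddEquiv.apply_symm_apply]
    exact hb' J

/-- Cochains in one degree preserve quasi-isomorphisms between complexes with acyclic terms. -/
theorem quasiIso_Ef {K L : CochainComplex (CohTop.Ab X) ℤ} (α : K ⟶ L) [QuasiIso α] (a : ℤ)
    [K.IsStrictlyGE a] [L.IsStrictlyGE a] (n : ℕ)
    (hK : ∀ (J : Fin (n + 1) → ι) i q, Subsingleton (CohTop.HU (K.X i) (q + 1) (cap U J)))
    (hL : ∀ i, Injective (L.X i)) :
    QuasiIso (((Ef U n).mapHomologicalComplex _).map ((CechTot.presheafCx X).map α)) := by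
  refine ⟨fun m => ?_⟩
  rw [quasiIsoAt_iff_isIso_homologyMap]
  let β := (CechTot.presheafCx X).map α
  haveI : IsIso ((Ef U n).map (homologyMap β m)) := isIso_Ef_map U _ n fun J => by
    haveI : QuasiIso ((((evaluation (Opens X)ᵒᵖ AddCommGrpCat.{u}).obj (op (cap U J))).mapHomologicalComplex
        (ComplexShape.up ℤ)).map β) := quasiIso_secV (cap U J) α a (hK J) hL
    exact SpSeqLib.MapExt.isIso_map_homologyMap_of_quasiIso
      ((evaluation (Opens X)ᵒᵖ AddCommGrpCat.{u}).obj (op (cap U J))) β m
  have h := ShortComplex.mapHomologyIso_hom_naturality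
    ((shortComplexFunctor (PSh X) (ComplexShape.up ℤ) m).map β) (Ef U n)
  have e : homologyMap (((Ef U n).mapHomologicalComplex _).map β) m =
      ((((CechTot.presheafCx X).obj K).sc m).mapHomologyIso (Ef U n)).hom ≫ (Ef U n).map (homologyMap β m) ≫
        ((((CechTot.presheafCx X).obj L).sc m).mapHomologyIso (Ef U n)).inv := by
    rw [← Category.assoc, Iso.eq_comp_inv]
    exact h
  show IsIso (homologyMap (((Ef U n).mapHomologicalComplex _).map β) m)
  rw [e]
  infer_instance

/-- Cochains of a given nonnegative degree, as a functor. -/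
def rowIso (n : ℕ) : (cechComplexFunctor U ⋙ ComplexShape.embeddingUpNat.extendFunctor AddCommGrpCat.{u}) ⋙
    HomologicalComplex.eval AddCommGrpCat.{u} (ComplexShape.up ℤ) (n : ℤ) ≅ Ef U n :=
  NatIso.ofComponents (fun P => ((cechComplexFunctor U).obj P).extendXIso ComplexShape.embeddingUpNat rfl)
    fun {P Q} φ => by
      show (extendMap _ _).f _ ≫ _ = _ ≫ ((cechComplexFunctor U).map φ).f n
      rw [extendMap_f _ ComplexShape.embeddingUpNat (show ComplexShape.embeddingUpNat.f n = (n : ℤ) from rfl),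
        Category.assoc, Category.assoc, Iso.inv_hom_id, Category.comp_id]

theorem isZero_cech₂ (P : CochainComplex (PSh X) ℤ) (a : ℤ) [P.IsStrictlyGE a] (p q : ℤ) (h : p < a ∨ q < 0) :
    IsZero (((CechTot.cech₂ U P).X p).X q) := by
  rcases h with h | h
  · exact Functor.map_isZero (HomologicalComplex.eval _ _ q)
      (Functor.map_isZero (ComplexShape.embeddingUpNat.extendFunctor AddCommGrpCat.{u})
        (IsZero.iff_id_eq_zero _ |>.2 (by
          rw [← CategoryTheory.Functor.map_id, (P.isZero_of_isStrictlyGE a p h).eq_of_src (𝟙 _) 0,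
            Functor.map_zero])))
  · exact isZero_extend_X _ _ _ fun i hi => by
      simp at hi
      omega

theorem quasiIso_tot_map {K L : CochainComplex (CohTop.Ab X) ℤ} (α : K ⟶ L) [QuasiIso α] (a : ℤ)
    [K.IsStrictlyGE a] [L.IsStrictlyGE a]
    (hK : ∀ n (J : Fin (n + 1) → ι) i q, Subsingleton (CohTop.HU (K.X i) (q + 1) (cap U J)))
    (hL : ∀ i, Injective (L.X i)) :
    QuasiIso (HomologicalComplex₂.total.map
      (((cechComplexFunctor U ⋙ ComplexShape.embeddingUpNat.extendFunctor AddCommGrpCat.{u}).mapHomologicalComplex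
        (ComplexShape.up ℤ)).map ((CechTot.presheafCx X).map α)) (ComplexShape.up ℤ)) := by
  haveI : ∀ M : CochainComplex (CohTop.Ab X) ℤ, [M.IsStrictlyGE a] → ((CechTot.presheafCx X).obj M).IsStrictlyGE a :=
    fun M _ => (CochainComplex.isStrictlyGE_iff _ _).2 fun i hi =>
      Functor.map_isZero (sheafToPresheaf (Opens.grothendieckTopology X) AddCommGrpCat.{u}) (M.isZero_of_isStrictlyGE a i hi)
  refine TotBoundLib.quasiIso_total_map _ a 0 (fun p q => isZero_cech₂ U _ a p q)
    (fun p q => isZero_cech₂ U _ a p q) fun q => ?_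
  rcases lt_or_ge q 0 with hq | hq
  · refine ⟨fun m => ?_⟩
    rw [quasiIsoAt_iff_isIso_homologyMap]
    exact IsZero.isIso
      (ShortComplex.isZero_homology_of_isZero_X₂ _ (isZero_cech₂ U _ a m q (Or.inr hq)))
      (ShortComplex.isZero_homology_of_isZero_X₂ _ (isZero_cech₂ U _ a m q (Or.inr hq))) _
  · obtain ⟨n, rfl⟩ := Int.eq_ofNat_of_zero_le hq
    let β := (CechTot.presheafCx X).map α
    exact (quasiIso_iff_of_arrow_mk_iso _ _ (Arrow.isoMk
      ((NatIso.mapHomologicalComplex (rowIso U n) (ComplexShape.up ℤ)).app _)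
      ((NatIso.mapHomologicalComplex (rowIso U n) (ComplexShape.up ℤ)).app _)
      ((NatIso.mapHomologicalComplex (rowIso U n) (ComplexShape.up ℤ)).hom.naturality β).symm)).2
        (quasiIso_Ef U α a n (hK n) hL)

/-- Sections over the union. -/
abbrev evU : PSh X ⥤ AddCommGrpCat.{u} := (evaluation (Opens X)ᵒᵖ AddCommGrpCat.{u}).obj (op (⨆ i, U i))

/-- The augmentation. -/
def aug : evU U ⋙ CochainComplex.single₀ AddCommGrpCat.{u} ⟶ cechComplexFunctor U where
  app P := ((cechComplexFunctor U).obj P).mkHomFromSingle ((rhoP U).app P) (fun j hj => by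
    obtain rfl : j = 1 := by simpa using hj.symm
    exact congr_app (rhoP_dNT U) P)
  naturality P Q φ := by
    refine HomologicalComplex.from_single_hom_ext ?_
    simp only [Functor.comp_map, HomologicalComplex.comp_f, mkHomFromSingle_f]
    rw [single_map_f_self]
    simp only [Category.assoc, Iso.inv_hom_id_assoc]
    exact congrArg _ ((rhoP U).naturality φ)

theorem quasiIso_aug (F : CohTop.Ab X) [TopCat.Sheaf.IsFlasque F] : QuasiIso ((aug U).app F.obj) := by
  refine ⟨fun n => ?_⟩
  rw [quasiIsoAt_iff_isIso_homologyMap]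
  rcases n with _ | n
  · let f := (aug U).app F.obj
    haveI := isIso_theta U F
    have e : (singleObjCyclesSelfIso (ComplexShape.up ℕ) 0 ((evU U).obj F.obj)).inv ≫ cyclesMap f 0 =
        (thetaNT U).app F.obj := by
      rw [← cancel_mono (((cechComplexFunctor U).obj F.obj).iCycles 0), Category.assoc, cyclesMap_i]
      simp [f, aug, thetaNT]
    haveI : IsIso ((singleObjCyclesSelfIso (ComplexShape.up ℕ) 0 ((evU U).obj F.obj)).inv ≫ cyclesMap f 0) := by
      rw [e]; infer_instance
    haveI : IsIso (cyclesMap f 0) := IsIso.of_isIso_comp_left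
      (singleObjCyclesSelfIso (ComplexShape.up ℕ) 0 ((evU U).obj F.obj)).inv _
    haveI : IsIso (((cechComplexFunctor U).obj F.obj).homologyπ 0) :=
      isIso_homologyπ _ (0 : ℕ) 0 (by simp) (((cechComplexFunctor U).obj F.obj).shape _ _ (by simp))
    haveI : IsIso (HomologicalComplex.homologyπ ((CochainComplex.single₀ AddCommGrpCat.{u}).obj ((evU U).obj F.obj)) 0 ≫
        homologyMap f 0) := by
      rw [homologyπ_naturality]; infer_instance
    haveI : IsIso (HomologicalComplex.homologyπ ((CochainComplex.single₀ AddCommGrpCat.{u}).obj ((evU U).obj F.obj)) 0) :=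
      isIso_homologyπ _ (0 : ℕ) 0 (by simp) (HomologicalComplex.shape _ _ _ (by simp))
    exact IsIso.of_isIso_comp_left (HomologicalComplex.homologyπ
      ((CochainComplex.single₀ AddCommGrpCat.{u}).obj ((evU U).obj F.obj)) 0) _
  · exact IsZero.isIso
      (isZero_single_obj_homology (ComplexShape.up ℕ) 0 _ (n + 1) (by omega))
      (Groth.Agent.S0455.result F U n) _

/-- The augmentation double complex. -/
abbrev M₁ (P : CochainComplex (PSh X) ℤ) :
    HomologicalComplex₂ AddCommGrpCat.{u} (ComplexShape.up ℤ) (ComplexShape.up ℤ) :=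
  (((evU U ⋙ CochainComplex.single₀ AddCommGrpCat.{u}) ⋙
    ComplexShape.embeddingUpNat.extendFunctor AddCommGrpCat.{u}).mapHomologicalComplex (ComplexShape.up ℤ)).obj P

/-- The augmentation of double complexes. -/
abbrev φ₁ (P : CochainComplex (PSh X) ℤ) : M₁ U P ⟶ CechTot.cech₂ U P :=
  (NatTrans.mapHomologicalComplex (Functor.whiskerRight (aug U)
    (ComplexShape.embeddingUpNat.extendFunctor AddCommGrpCat.{u})) (ComplexShape.up ℤ)).app P

theorem isZero_M₁ (P : CochainComplex (PSh X) ℤ) (p q : ℤ) (h : q ≠ 0) : IsZero (((M₁ U P).X p).X q) := by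
  rcases lt_or_ge q 0 with hq | hq
  · exact isZero_extend_X _ _ _ fun i hi => by simp at hi; omega
  · obtain ⟨k, rfl⟩ := Int.eq_ofNat_of_zero_le hq
    exact (isZero_single_obj_X (ComplexShape.up ℕ) 0 _ k (by simpa using h)).of_iso
      (((CochainComplex.single₀ AddCommGrpCat.{u}).obj _).extendXIso ComplexShape.embeddingUpNat rfl)

theorem isZero_M₁_bound (P : CochainComplex (PSh X) ℤ) (a : ℤ) [P.IsStrictlyGE a] (p q : ℤ) (h : p < a ∨ q < 0) :
    IsZero (((M₁ U P).X p).X q) := by
  rcases h with h | h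
  · exact Functor.map_isZero (HomologicalComplex.eval _ _ q)
      (Functor.map_isZero ((evU U ⋙ CochainComplex.single₀ AddCommGrpCat.{u}) ⋙ ComplexShape.embeddingUpNat.extendFunctor AddCommGrpCat.{u}) (P.isZero_of_isStrictlyGE a p h))
  · exact isZero_M₁ U P p q (by omega)

theorem quasiIso_tot_φ₁ (L : CochainComplex (CohTop.Ab X) ℤ) (a : ℤ) [L.IsStrictlyGE a]
    (hL : ∀ i, Injective (L.X i)) :
    QuasiIso (HomologicalComplex₂.total.map ((HomologicalComplex₂.flipFunctor AddCommGrpCat.{u} (ComplexShape.up ℤ)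
      (ComplexShape.up ℤ)).map (φ₁ U ((CechTot.presheafCx X).obj L))) (ComplexShape.up ℤ)) := by
  haveI : ((CechTot.presheafCx X).obj L).IsStrictlyGE a := (CochainComplex.isStrictlyGE_iff _ _).2 fun i hi =>
    Functor.map_isZero (sheafToPresheaf (Opens.grothendieckTopology X) AddCommGrpCat.{u}) (L.isZero_of_isStrictlyGE a i hi)
  let φ := φ₁ U ((CechTot.presheafCx X).obj L)
  refine TotBoundLib.quasiIso_total_map _ 0 a (fun p q h => isZero_M₁_bound U _ a q p h.symm)
    (fun p q h => isZero_cech₂ U _ a q p h.symm) fun q => ?_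
  haveI := hL q
  haveI : TopCat.Sheaf.IsFlasque (L.X q) := QCohLib.isFlasque_of_injective (L.X q)
  haveI := quasiIso_aug U (L.X q)
  haveI : QuasiIso (φ.f q) := (quasiIso_extendMap_iff ((aug U).app (L.X q).obj) ComplexShape.embeddingUpNat).2 inferInstance
  exact (quasiIso_iff_of_arrow_mk_iso (φ.f q) _ (Arrow.isoMk
    (Hom.isoOfComponents (fun p => Iso.refl _) (fun i j _ => (Category.id_comp _).trans (Category.comp_id _).symm))
    (Hom.isoOfComponents (fun p => Iso.refl _) (fun i j _ => (Category.id_comp _).trans (Category.comp_id _).symm))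
    (by ext p : 1; exact (Category.id_comp _).trans (Category.comp_id _).symm))).1 inferInstance

variable (P : CochainComplex (PSh X) ℤ)

/-- The component of degree zero. -/
def e₀ (p : ℤ) : ((M₁ U P).X p).X 0 ≅ (evU U).obj (P.X p) :=
  ((CochainComplex.single₀ AddCommGrpCat.{u}).obj ((evU U).obj (P.X p))).extendXIso
    ComplexShape.embeddingUpNat (show ComplexShape.embeddingUpNat.f 0 = 0 from rfl) ≪≫
    singleObjXSelf (ComplexShape.up ℕ) 0 _

theorem e₀_d (p p' : ℤ) : ((M₁ U P).d p p').f 0 ≫ (e₀ U P p').hom =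
    (e₀ U P p).hom ≫ (evU U).map (P.d p p') := by
  show (extendMap ((CochainComplex.single₀ _).map ((evU U).map (P.d p p'))) _).f 0 ≫ _ = _
  rw [extendMap_f _ ComplexShape.embeddingUpNat (show ComplexShape.embeddingUpNat.f 0 = 0 from rfl)]
  simp [e₀, single_map_f_self]

/-- The total complex of the augmentation double complex is the complex of sections. -/
def totM₁Iso : ((evU U).mapHomologicalComplex (ComplexShape.up ℤ)).obj P ≅
    (M₁ U P).total (ComplexShape.up ℤ) :=
  Hom.isoOfComponents (fun n =>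
    { hom := (e₀ U P n).inv ≫ TotBoundLib.inc (M₁ U P) n n 0 (add_zero n)
      inv := TotBoundLib.prj (M₁ U P) n n 0 ≫ (e₀ U P n).hom
      hom_inv_id := by
        rw [Category.assoc, reassoc_of% (TotBoundLib.inc_prj (M₁ U P) n n 0 (add_zero n)), Iso.inv_hom_id]
      inv_hom_id := by
        refine HomologicalComplex₂.total.hom_ext _ fun r s hrs => ?_
        have hrs' : r + s = n := hrs
        rw [Category.assoc, Iso.hom_inv_id_assoc, Category.comp_id]
        by_cases hs : s = 0
        · subst hs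
          obtain rfl : r = n := by omega
          rw [reassoc_of% (TotBoundLib.inc_prj (M₁ U P) r r 0 (add_zero r))]
        · exact (isZero_M₁ U P r s hs).eq_of_src _ _ })
    (fun i j hij => by
      obtain rfl : i + 1 = j := hij
      show ((e₀ U P i).inv ≫ TotBoundLib.inc (M₁ U P) i i 0 (add_zero i)) ≫ _ =
        (evU U).map (P.d i (i + 1)) ≫ (e₀ U P (i + 1)).inv ≫ TotBoundLib.inc (M₁ U P) (i + 1) (i + 1) 0 (add_zero _)
      have h : TotBoundLib.inc (M₁ U P) i i 0 (add_zero i) ≫ ((M₁ U P).total (ComplexShape.up ℤ)).d i (i + 1) =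
          ((M₁ U P).d i (i + 1)).f 0 ≫ TotBoundLib.inc (M₁ U P) (i + 1) (i + 1) 0 (add_zero _) := by
        rw [HomologicalComplex₂.total_d, Preadditive.comp_add]
        show (M₁ U P).ιTotal _ i 0 i _ ≫ _ + (M₁ U P).ιTotal _ i 0 i _ ≫ _ = _
        rw [HomologicalComplex₂.ι_D₁, HomologicalComplex₂.ι_D₂,
          HomologicalComplex₂.d₁_eq _ _ (show (ComplexShape.up ℤ).Rel i (i + 1) from rfl) 0 (i + 1)
            (show i + 1 + 0 = i + 1 by omega),
          HomologicalComplex₂.d₂_eq _ _ i (show (ComplexShape.up ℤ).Rel 0 (0 + 1) from rfl) (i + 1)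
            (show i + (0 + 1) = i + 1 by omega),
          (isZero_M₁ U P i (0 + 1) (by omega)).eq_of_tgt (((M₁ U P).X i).d 0 (0 + 1)) 0, zero_comp, smul_zero,
          add_zero, show ComplexShape.ε₁ (ComplexShape.up ℤ) (ComplexShape.up ℤ) (ComplexShape.up ℤ) (i, (0 : ℤ)) = 1
            from rfl, one_smul]
      rw [Category.assoc, h, ← Category.assoc, ← Category.assoc]
      congr 1
      rw [Iso.eq_comp_inv, Category.assoc, e₀_d, Iso.inv_hom_id_assoc])

variable [HasDerivedCategory.{u} (CohTop.Ab X)]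

theorem nonempty_hyperH_equiv (K : CochainComplex (CohTop.Ab X) ℤ) (a : ℤ) [K.IsStrictlyGE a]
    (hK : ∀ n (J : Fin (n + 1) → ι) i q, Subsingleton (CohTop.HU (K.X i) (q + 1) (cap U J))) (n : ℤ) :
    Nonempty (↑(CechTot.hyperH U ((CechTot.presheafCx X).obj K) n) ≃+
      CohCx.HDU (DerivedCategory.Q.obj K) n (⨆ i, U i)) := by
  obtain ⟨I, α, hIge, hI, -, hα⟩ := Groth.Agent.DerLib.Horseshoe.exists_injective_resolution K a
  haveI := hIge
  haveI := hα
  haveI : I.IsKInjective := CochainComplex.isKInjective_of_injective I a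
  haveI := quasiIso_tot_map U α a hK hI
  haveI := quasiIso_tot_φ₁ U I a hI
  let P := (CechTot.presheafCx X).obj I
  let φ : (pre I).homology n ≅ CohCx.HDUPresheaf (DerivedCategory.Q.obj K) n :=
    Groth.Agent.AbSiteDerLib.hduPresheafIso I n ≪≫
      Functor.isoWhiskerLeft _ (preadditiveYoneda.mapIso
        ((shiftFunctor (DerivedCategory (CohTop.Ab X)) n).mapIso (asIso (DerivedCategory.Q.map α)).symm))
  let e : CechTot.hyperH U ((CechTot.presheafCx X).obj K) n ≅
      (CohCx.HDUPresheaf (DerivedCategory.Q.obj K) n).obj (op (⨆ i, U i)) :=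
    isoOfQuasiIsoAt (HomologicalComplex₂.total.map
      (((cechComplexFunctor U ⋙ ComplexShape.embeddingUpNat.extendFunctor AddCommGrpCat.{u}).mapHomologicalComplex
        (ComplexShape.up ℤ)).map ((CechTot.presheafCx X).map α)) (ComplexShape.up ℤ)) n ≪≫
    (homologyFunctor _ _ n).mapIso ((CechTot.cech₂ U P).totalFlipIso (ComplexShape.up ℤ)).symm ≪≫
    (isoOfQuasiIsoAt (HomologicalComplex₂.total.map ((HomologicalComplex₂.flipFunctor AddCommGrpCat.{u}
      (ComplexShape.up ℤ) (ComplexShape.up ℤ)).map (φ₁ U P)) (ComplexShape.up ℤ)) n).symm ≪≫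
    (homologyFunctor _ _ n).mapIso ((M₁ U P).totalFlipIso (ComplexShape.up ℤ) ≪≫ (totM₁Iso U P).symm) ≪≫
    (P.sc n).mapHomologyIso (evU U) ≪≫ (evU U).mapIso φ
  exact ⟨e.addCommGroupIsoToAddEquiv⟩

end CechAcycLib
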